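import Groth.Agent.H1ZeroLib.Global
import Groth.Agent.AmpleEmb.Generated
import Groth.Agent.CurveLib.TensorExact
import Groth.Agent.AmpleLib.ExtendMod

/-!
# Deformation ample modules: globally generated with `H¹(- ⊗ ω) = 0`
-/

set_option autoImplicit false
set_option backward.isDefEq.respectTransparency false
set_option backward.isDefEq.respectTransparency.types false
set_option linter.style.haveILetI false

universe u

open CategoryTheory CategoryTheory.Limits AlgebraicGeometry TopologicalSpace Opposite
open Groth.Agent.PullbackMod Groth.Agent.DCohLib Groth.Agent.CurveLib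
open scoped TensorProduct

noncomputable section

namespace Groth.Agent.DefAmple

variable {X : Scheme.{u}}

/-- The sections of `E` span every stalk. -/
def Spans (E : X.Modules) : Prop :=
  ∀ x : X, (⨆ t : Coh.structureModule X ⟶ E, LinearMap.range (stalkLin t x)) = ⊤

theorem spans_iff {E : X.Modules} : Spans E ↔ Curv2.IsGloballyGenerated E := by
  refine ⟨fun h => AmpleEmb.isGloballyGenerated_of_span (ι := Γ(E, ⊤)) (fun i => i) fun x => ?_,
    fun h x => H1ZeroLib.iSup_range_sections h x⟩
  rw [eq_top_iff, ← h x]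
  refine iSup_le fun t => ?_
  rintro _ ⟨w, rfl⟩
  obtain ⟨c, rfl⟩ := (ParaFLib.bijective_oneG x).2 w
  rw [map_smul]
  refine Submodule.smul_mem _ _ (Submodule.subset_span ⟨AmpleLib.sec t, ?_⟩)
  conv_rhs => rw [← AmpleLib.secHom_sec t, CurveLib.stalkLin_secHom]

variable {k : Type u} [Field k] [X.Over (Spec (CommRingCat.of k))]

include k in
/-- Extensions of spanned modules along lifts of sections are spanned. -/
theorem spans_of_lift {A E Q : X.Modules} (f : A ⟶ E) (π : E ⟶ Q)
    (hex : ∀ (x : X) (z : E.presheaf.stalk x), stalkLin π x z = 0 → z ∈ LinearMap.range (stalkLin f x))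
    (hπ : ∀ x, Function.Surjective (stalkLin π x)) (hA : Spans A) (hQ : Spans Q)
    [Subsingleton (Coh.HH X (kernel π) 1)] : Spans E := by
  intro x
  set S := ⨆ t : Coh.structureModule X ⟶ E, LinearMap.range (stalkLin t x) with hS
  refine eq_top_iff.2 fun z _ => ?_
  have hker : LinearMap.range (stalkLin f x) ≤ S := by
    rw [LinearMap.range_eq_map, ← hA x, Submodule.map_iSup]
    refine iSup_le fun t => ?_
    rw [← LinearMap.range_comp, ← stalkLin_comp]
    exact le_iSup (fun t => LinearMap.range (stalkLin t x)) (t ≫ f)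
  have hQS : (⊤ : Submodule _ (Q.presheaf.stalk x)) ≤ S.map (stalkLin π x) := by
    rw [← hQ x]
    refine iSup_le fun σ => ?_
    obtain ⟨τ, hτ⟩ := H1ZeroLib.exists_lift (k := k) π hπ σ
    rw [← hτ, stalkLin_comp, LinearMap.range_comp]
    exact Submodule.map_mono (le_iSup (fun t => LinearMap.range (stalkLin t x)) τ)
  obtain ⟨y, hy, hyz⟩ := hQS (Submodule.mem_top : stalkLin π x z ∈ ⊤)
  have h := hker (hex x (z - y) (by rw [map_sub, hyz, sub_self]))
  simpa using add_mem h hy

/-- Multiplication by a section of `N`. -/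
def mulBy (A : X.Modules) {N : X.Modules} (σ : Coh.structureModule X ⟶ N) : A ⟶ (tensR A).obj N :=
  (AmpleLib.unitL A).inv ≫ (tensR A).map σ

/-- The images of `A` under a spanning family of sections of `N` span `N ⊗ A`. -/
theorem iSup_range_mulBy (A : X.Modules) {N : X.Modules} {ι : Sort*} (σ : ι → (Coh.structureModule X ⟶ N)) (x : X)
    (h : (⨆ i, LinearMap.range (stalkLin (σ i) x)) = ⊤) :
    (⨆ i, LinearMap.range (stalkLin (mulBy A (σ i)) x)) = ⊤ := by
  set S := ⨆ i, LinearMap.range (stalkLin (mulBy A (σ i)) x) with hS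
  refine eq_top_iff.2 fun z _ => ?_
  obtain ⟨w, rfl⟩ := (stalkTensor x N A).surjective z
  induction w using TensorProduct.induction_on with
  | zero => rw [map_zero]; exact zero_mem _
  | add a b ha hb => rw [map_add]; exact add_mem (ha trivial) (hb trivial)
  | tmul n a =>
    have hle : (⨆ i, LinearMap.range (stalkLin (σ i) x)) ≤
        S.comap ((stalkTensor x N A).toLinearMap ∘ₗ (TensorProduct.mk (X.presheaf.stalk x) _ _).flip a) := by
      refine iSup_le fun i => ?_
      rintro _ ⟨v, rfl⟩
      refine Submodule.mem_iSup_of_mem i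
        ⟨stalkLin (AmpleLib.unitL A).hom x (stalkTensor x (Coh.structureModule X) A (v ⊗ₜ a)), ?_⟩
      rw [mulBy, stalkLin_comp, LinearMap.comp_apply]
      refine Eq.trans (congrArg _ ?_) ((stalkTensor_natural_left x (σ i) (v ⊗ₜ a)).trans rfl)
      rw [← LinearMap.comp_apply, ← stalkLin_comp, Iso.hom_inv_id, stalkLin_id, LinearMap.id_apply]
    exact hle (h.ge (Submodule.mem_top : n ∈ ⊤))

theorem spans_tensor {N A : X.Modules} (hN : Spans N) (hA : Spans A) : Spans ((tensR A).obj N) := by
  intro x
  rw [eq_top_iff, ← iSup_range_mulBy A (fun t : Coh.structureModule X ⟶ N => t) x (hN x)]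
  refine iSup_le fun t => ?_
  rw [LinearMap.range_eq_map, ← hA x, Submodule.map_iSup]
  refine iSup_le fun s => ?_
  rw [← LinearMap.range_comp, ← stalkLin_comp]
  exact le_iSup (fun u => LinearMap.range (stalkLin u x)) (s ≫ mulBy A t)

variable [IsProper (X ↘ Spec (CommRingCat.of k))]

include k in
/-- `H¹(E ⊗ ω) = 0` is inherited along a morphism surjective outside finitely many points. -/
theorem subsingleton_H1_tensor {A E : X.Modules} (W : X.Modules) (f : A ⟶ E) {C : Set X} (hC : IsClosed C)
    (hd : topologicalKrullDim C ≤ 0) (hdim : topologicalKrullDim X ≤ 1)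
    (h : ∀ x, x ∉ C → Function.Surjective (stalkLin f x)) [Subsingleton (Coh.HH X ((tensR W).obj A) 1)] :
    Subsingleton (Coh.HH X ((tensR W).obj E) 1) := by
  refine (hMap_one_surjective (k := k) hdim ((tensR W).map f) hC hd fun x hx z => ?_).subsingleton
  obtain ⟨w, rfl⟩ := (stalkTensor x E W).surjective z
  obtain ⟨v, rfl⟩ := LinearMap.rTensor_surjective (W.presheaf.stalk x) (h x hx) w
  exact ⟨stalkTensor x A W v, stalkTensor_natural_left x f v⟩

end Groth.Agent.DefAmple
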